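import Groth.Prelude.Def_Pi1
import Mathlib.RingTheory.FinitePresentation
import Mathlib.RingTheory.TensorProduct.Finite
import Mathlib.Algebra.Module.FinitePresentation
import Mathlib.LinearAlgebra.TensorProduct.Finiteness

/-! Finiteness descends along universally injective ring maps. -/

set_option autoImplicit false

noncomputable section

namespace Groth.Agent.UnivInjDesc

universe u

open TensorProduct

variable {R S : Type u} [CommRing R] [CommRing S] [Algebra R S] (h : Pi1.UnivInjective R S)

include h in
theorem one_tmul_injective (M : Type u) [AddCommGroup M] [Module R M] :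
    Function.Injective fun m : M => (1 : S) ⊗ₜ[R] m := fun a b hab => by
  have h1 : ∀ x : M, (Algebra.linearMap R S).lTensor M (x ⊗ₜ 1) = x ⊗ₜ[R] (1 : S) := fun x => by simp
  have h2 : a ⊗ₜ[R] (1 : R) = b ⊗ₜ[R] (1 : R) := h M (by
    rw [h1, h1]
    exact congrArg (TensorProduct.comm R S M) hab)
  simpa using congrArg (TensorProduct.rid R M) h2

include h in
theorem injective_of_lTensor {M N : Type u} [AddCommGroup M] [Module R M] [AddCommGroup N]
    [Module R N] (f : M →ₗ[R] N) (hf : Function.Injective (f.lTensor S)) : Function.Injective f :=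
  fun a b hab => one_tmul_injective h M (hf (by simp [hab]))

include h in
theorem surjective_of_lTensor {M N : Type u} [AddCommGroup M] [Module R M] [AddCommGroup N]
    [Module R N] (f : M →ₗ[R] N) (hf : Function.Surjective (f.lTensor S)) : Function.Surjective f := by
  rw [← LinearMap.range_eq_top, ← Submodule.Quotient.subsingleton_iff]
  refine subsingleton_of_forall_eq 0 fun q => ?_
  obtain ⟨n, rfl⟩ := Submodule.mkQ_surjective _ q
  apply one_tmul_injective h _
  obtain ⟨z, hz⟩ := hf (1 ⊗ₜ n)
  have h1 := congrArg ((LinearMap.range f).mkQ.lTensor S) hz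
  rw [← LinearMap.lTensor_comp_apply, LinearMap.range_mkQ_comp, LinearMap.lTensor_zero,
    LinearMap.zero_apply, LinearMap.lTensor_tmul] at h1
  simpa using h1.symm

include h in
theorem finite (M : Type u) [AddCommGroup M] [Module R M] [Module.Finite S (S ⊗[R] M)] :
    Module.Finite R M := by
  classical
  obtain ⟨s, hs⟩ := (Module.finite_def.mp ‹Module.Finite S (S ⊗[R] M)›)
  obtain ⟨N, hN, hsN⟩ := TensorProduct.exists_finite_submodule_right_of_setFinite (s : Set (S ⊗[R] M)) s.finite_toSet
  refine Module.Finite.of_surjective N.subtype (surjective_of_lTensor h _ fun z => ?_)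
  have h1 : (⊤ : Submodule S (S ⊗[R] M)) ≤ LinearMap.range (N.subtype.baseChange S) := by
    rw [← hs, Submodule.span_le]
    exact fun x hx => hsN hx
  obtain ⟨w, hw⟩ := h1 (Submodule.mem_top (x := z))
  exact ⟨w, hw⟩

include h in
theorem finitePresentation (M : Type u) [AddCommGroup M] [Module R M]
    [Module.FinitePresentation S (S ⊗[R] M)] : Module.FinitePresentation R M := by
  classical
  haveI := finite h M
  obtain ⟨n, π, hπ⟩ := Module.Finite.exists_fin' R M
  have hπS : Function.Surjective (π.baseChange S) := LinearMap.lTensor_surjective S hπ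
  obtain ⟨s, hs⟩ := Module.FinitePresentation.fg_ker (π.baseChange S) hπS
  have hker : ∀ x ∈ s, x ∈ LinearMap.range ((LinearMap.ker π).subtype.lTensor S) := fun x hx =>
    (lTensor_exact S (LinearMap.exact_subtype_ker_map π) hπ x).mp
      (show x ∈ LinearMap.ker (π.baseChange S) from hs ▸ Submodule.subset_span hx)
  choose w hw using hker
  obtain ⟨K', hK', hsK'⟩ := TensorProduct.exists_finite_submodule_right_of_setFinite
    (Set.range fun x : s => w x x.2) (Set.finite_range _)
  let K'' : Submodule R (Fin n → R) := LinearMap.range ((LinearMap.ker π).subtype ∘ₗ K'.subtype)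
  have hle : K'' ≤ LinearMap.ker π := by
    rintro _ ⟨z, rfl⟩; exact z.1.2
  let ψ := K''.liftQ π hle
  have hψs : Function.Surjective ψ := fun m => by
    obtain ⟨v, rfl⟩ := hπ m; exact ⟨K''.mkQ v, rfl⟩
  have hψ : Function.Injective (ψ.lTensor S) := by
    rw [injective_iff_map_eq_zero]
    intro z hz
    obtain ⟨v, rfl⟩ := LinearMap.lTensor_surjective S K''.mkQ_surjective z
    rw [← LinearMap.lTensor_comp_apply, Submodule.liftQ_mkQ] at hz
    have h1 : LinearMap.ker (π.baseChange S) ≤ LinearMap.ker (K''.mkQ.baseChange S) := by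
      rw [← hs, Submodule.span_le]
      intro x hx
      obtain ⟨y, (hy : K'.subtype.lTensor S y = w x hx)⟩ := hsK' ⟨⟨x, hx⟩, rfl⟩
      show K''.mkQ.lTensor S x = 0
      rw [← hw x hx, ← hy, ← LinearMap.lTensor_comp_apply, ← LinearMap.lTensor_comp_apply,
        LinearMap.comp_assoc, show K''.mkQ ∘ₗ ((LinearMap.ker π).subtype ∘ₗ K'.subtype) = 0 from
          LinearMap.range_mkQ_comp _, LinearMap.lTensor_zero, LinearMap.zero_apply]
    exact h1 hz
  haveI : Module.FinitePresentation R ((Fin n → R) ⧸ K'') :=
    Module.finitePresentation_of_surjective K''.mkQ K''.mkQ_surjective (by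
      rw [Submodule.ker_mkQ]
      exact Module.Finite.iff_fg.mp (Module.Finite.range _))
  exact Module.FinitePresentation.of_equiv (LinearEquiv.ofBijective ψ ⟨injective_of_lTensor h ψ hψ, hψs⟩)

theorem map_apply {A B : Type u} [CommRing A] [Algebra R A] [CommRing B] [Algebra R B] (f : A →ₐ[R] B)
    (z : S ⊗[R] A) :
    Algebra.TensorProduct.map (AlgHom.id S S) f z = f.toLinearMap.lTensor S z := by
  induction z using TensorProduct.induction_on with
  | zero => simp
  | add a b ha hb => simp only [map_add, ha, hb]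
  | tmul s a => rfl

include h in
theorem finiteType (A : Type u) [CommRing A] [Algebra R A] [Algebra.FiniteType S (S ⊗[R] A)] :
    Algebra.FiniteType R A := by
  classical
  obtain ⟨s, hs⟩ := (Algebra.FiniteType.out : (⊤ : Subalgebra S (S ⊗[R] A)).FG)
  obtain ⟨N, hN, hsN⟩ := TensorProduct.exists_finite_submodule_right_of_setFinite (s : Set (S ⊗[R] A)) s.finite_toSet
  obtain ⟨t, ht⟩ := Module.Finite.iff_fg.mp hN
  let A' := Algebra.adjoin R (t : Set A)
  haveI : Algebra.FiniteType R A' := Algebra.FiniteType.adjoin_of_finite t.finite_toSet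
  refine Algebra.FiniteType.of_surjective A'.val (surjective_of_lTensor h A'.val.toLinearMap fun z => ?_)
  have hNA : N ≤ A'.toSubmodule := ht ▸ Submodule.span_le.mpr Algebra.subset_adjoin
  have h1 : (⊤ : Subalgebra S (S ⊗[R] A)) ≤
      (Algebra.TensorProduct.map (AlgHom.id S S) A'.val).range := by
    rw [← hs, Algebra.adjoin_le_iff]
    intro x hx
    obtain ⟨y, hy⟩ := hsN hx
    refine ⟨(Submodule.inclusion hNA).lTensor S y, ?_⟩
    rw [← hy]
    show Algebra.TensorProduct.map (AlgHom.id S S) A'.val ((Submodule.inclusion hNA).lTensor S y) = _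
    rw [map_apply, ← LinearMap.lTensor_comp_apply]
    rfl
  obtain ⟨w, hw⟩ := h1 (Algebra.mem_top (x := z))
  exact ⟨w, (map_apply A'.val w).symm.trans hw⟩

include h in
theorem algFinitePresentation (A : Type u) [CommRing A] [Algebra R A]
    [Algebra.FinitePresentation S (S ⊗[R] A)] : Algebra.FinitePresentation R A := by
  classical
  haveI := finiteType h A
  obtain ⟨n, π, hπ⟩ := Algebra.FiniteType.iff_quotient_mvPolynomial''.mp ‹Algebra.FiniteType R A›
  let P := MvPolynomial (Fin n) R
  let πS := Algebra.TensorProduct.map (AlgHom.id S S) π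
  have hπS : Function.Surjective πS := fun z => by
    obtain ⟨w, hw⟩ := LinearMap.lTensor_surjective S (g := π.toLinearMap) hπ z
    exact ⟨w, (map_apply π w).trans hw⟩
  obtain ⟨s, hs⟩ := Algebra.FinitePresentation.ker_fG_of_surjective πS hπS
  have hker : ∀ x ∈ s, x ∈ LinearMap.range ((LinearMap.ker π.toLinearMap).subtype.lTensor S) := fun x hx =>
    (lTensor_exact S (LinearMap.exact_subtype_ker_map π.toLinearMap) hπ x).mp
      ((map_apply π x).symm.trans (RingHom.mem_ker.mp (hs ▸ Ideal.subset_span hx)))
  choose w hw using hker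
  obtain ⟨K', hK', hsK'⟩ := TensorProduct.exists_finite_submodule_right_of_setFinite
    (Set.range fun x : s => w x x.2) (Set.finite_range _)
  obtain ⟨t, ht⟩ := Module.Finite.iff_fg.mp
    (Module.Finite.range ((LinearMap.ker π.toLinearMap).subtype ∘ₗ K'.subtype))
  let I : Ideal P := Ideal.span (t : Set P)
  have hIπ : I ≤ RingHom.ker π.toRingHom := Ideal.span_le.mpr fun x hx => by
    have : x ∈ LinearMap.range ((LinearMap.ker π.toLinearMap).subtype ∘ₗ K'.subtype) :=
      ht ▸ Submodule.subset_span hx
    obtain ⟨y, rfl⟩ := this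
    exact y.1.2
  let ψ : (P ⧸ I) →ₐ[R] A := Ideal.Quotient.liftₐ I π fun a ha => hIπ ha
  have hψs : Function.Surjective ψ := fun a => by
    obtain ⟨v, rfl⟩ := hπ a; exact ⟨Ideal.Quotient.mk I v, rfl⟩
  let mkS := Algebra.TensorProduct.map (AlgHom.id S S) (Ideal.Quotient.mkₐ R I)
  have hψ : Function.Injective (ψ.toLinearMap.lTensor S) := by
    rw [injective_iff_map_eq_zero]
    intro z hz
    obtain ⟨v, rfl⟩ := LinearMap.lTensor_surjective S (g := (Ideal.Quotient.mkₐ R I).toLinearMap)
      Ideal.Quotient.mk_surjective z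
    rw [← LinearMap.lTensor_comp_apply] at hz
    have h1 : RingHom.ker πS ≤ RingHom.ker mkS := by
      refine (le_of_eq hs.symm).trans ?_
      rw [Submodule.span_le]
      intro x hx
      obtain ⟨y, (hy : K'.subtype.lTensor S y = w x hx)⟩ := hsK' ⟨⟨x, hx⟩, rfl⟩
      show mkS x = 0
      rw [map_apply, ← hw x hx, ← hy, ← LinearMap.lTensor_comp_apply, ← LinearMap.lTensor_comp_apply]
      have h2 : (Ideal.Quotient.mkₐ R I).toLinearMap ∘ₗ (LinearMap.ker π.toLinearMap).subtype ∘ₗ K'.subtype = 0 := by
        refine LinearMap.ext fun k => Ideal.Quotient.eq_zero_iff_mem.mpr ?_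
        have h3 : ((LinearMap.ker π.toLinearMap).subtype ∘ₗ K'.subtype) k ∈ Submodule.span R (t : Set P) :=
          ht ▸ LinearMap.mem_range_self _ k
        exact Submodule.span_le_restrictScalars R P (t : Set P) h3
      rw [LinearMap.comp_assoc, h2, LinearMap.lTensor_zero, LinearMap.zero_apply]
    exact (map_apply _ v).symm.trans (h1 (RingHom.mem_ker.mpr ((map_apply π v).trans hz)))
  haveI : Algebra.FinitePresentation R (P ⧸ I) := Algebra.FinitePresentation.quotient ⟨t, rfl⟩
  exact Algebra.FinitePresentation.equiv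
    (AlgEquiv.ofBijective ψ ⟨injective_of_lTensor h ψ.toLinearMap hψ, hψs⟩)

end Groth.Agent.UnivInjDesc
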